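import Cfsg.Agent.Lib.Helper8.Core0.Lad2
import Cfsg.Agent.Lib.Helper8.Core0.PK4

/-! Core0: arithmetic (subset of rung AR, valid for all m). -/

set_option autoImplicit false

namespace Cfsg.Agent.Lib.Helper8.Core0

open Cfsg.Agent.Lib.Helper46 Matrix

theorem ar_Q_add {q : ℕ} (hq : 1 ≤ q) : (q ^ 2 - q + 1) + q = q ^ 2 + 1 := by
  have : q ≤ q ^ 2 := by nlinarith
  omega

theorem ar_Q_mod2 {q : ℕ} (hq : 1 ≤ q) : (q ^ 2 - q + 1) % 2 = 1 := by
  have h := ar_Q_add hq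
  have h2 : q ^ 2 % 2 = q % 2 := by
    rw [Nat.pow_mod]
    rcases Nat.mod_two_eq_zero_or_one q with h | h <;> rw [h]
  omega

theorem ar_cube {q : ℕ} (hq : 1 ≤ q) : q ^ 3 + 1 = (q + 1) * (q ^ 2 - q + 1) := by
  have h := ar_Q_add hq
  set Q := q ^ 2 - q + 1 with hQ
  have : (q + 1) * (Q + q) = (q + 1) * (q ^ 2 + 1) := by rw [h]
  nlinarith

namespace ReeFull

variable {G : Type*} [Group G] {K : Type*} [Field K] (D : ReeFull G K)

theorem ar_q_eq : D.q = 3 * 9 ^ D.m := by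
  unfold q
  rw [pow_succ, pow_mul]
  norm_num [mul_comm]

theorem q_mod_eight : D.q % 8 = 3 := by
  rw [ar_q_eq, Nat.mul_mod, Nat.pow_mod]
  norm_num

theorem q_ge : 3 ≤ D.q := by
  have := D.q_mod_eight
  omega

theorem card_G_eq : Nat.card G = 8 * (D.q ^ 3 * ((D.q - 1) / 2) * ((D.q + 1) / 4) * (D.q ^ 2 - D.q + 1)) := by
  rw [D.card_G, ar_cube (q := D.q) (by have := D.q_ge; omega)]
  have h8 := D.q_mod_eight
  have hge := D.q_ge
  have e1 : D.q - 1 = 2 * ((D.q - 1) / 2) := by omega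
  have e2 : D.q + 1 = 4 * ((D.q + 1) / 4) := by omega
  set A := (D.q - 1) / 2
  set B := (D.q + 1) / 4
  rw [e1, e2]
  ring

theorem odd_part : Odd (D.q ^ 3 * ((D.q - 1) / 2) * ((D.q + 1) / 4) * (D.q ^ 2 - D.q + 1)) := by
  have h8 := D.q_mod_eight
  have hge := D.q_ge
  have o1 : Odd D.q := Nat.odd_iff.mpr (by omega)
  have o2 : Odd ((D.q - 1) / 2) := Nat.odd_iff.mpr (by omega)
  have o3 : Odd ((D.q + 1) / 4) := Nat.odd_iff.mpr (by omega)
  have o4 : Odd (D.q ^ 2 - D.q + 1) := Nat.odd_iff.mpr (ar_Q_mod2 (by omega))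
  exact ((o1.pow.mul o2).mul o3).mul o4

end ReeFull

end Cfsg.Agent.Lib.Helper8.Core0
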