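import Mathlib
import Cfsg.Prelude.Def_KGroupFacts

/-!
# Abstract description of the small Ree groups by their `(B, N)`-normal form

`ReeData G K` records a parametrisation of `U`, `H`, `n₀` in a group `G` with the multiplication law of
`U`, the torus action and the sharp Bruhat decomposition.
-/

set_option autoImplicit false

namespace Cfsg.Agent.Lib.Helper8.Core0

/-- a group with the `(B,N)`-normal form of a small Ree group over `K`. -/
structure ReeData (G : Type*) [Group G] (K : Type*) [Field K] where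
  ψ : K →+* K
  U : K → K → K → G
  H : Kˣ →* G
  n : G
  ψψ : ∀ x, ψ (ψ x) = x ^ 3
  three : (3 : K) = 0
  U_mul : ∀ t u v t' u' v', U t u v * U t' u' v' =
    U (t + t') (u + u' - t * ψ t') (v + v' - u * t' + t * t' * ψ t' - t ^ 2 * ψ t')
  U_inj : ∀ t u v t' u' v', U t u v = U t' u' v' → t = t' ∧ u = u' ∧ v = v'
  H_conj : ∀ (z : Kˣ) t u v, H z * U t u v * (H z)⁻¹ =
    U (z * t) (z * ψ z * u) ((z : K) ^ 2 * ψ z * v)
  n_H : ∀ z, ∃ z', n * H z * n⁻¹ = H z'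
  n_H' : ∀ z, ∃ z', n⁻¹ * H z * n = H z'
  cover : ∀ g, (∃ t u v z, g = U t u v * H z) ∨
    ∃ t u v z t' u' v', g = U t u v * H z * n * U t' u' v'
  uniq : ∀ t u v z t' u' v' a b c w a' b' c',
    U t u v * H z * n * U t' u' v' = U a b c * H w * n * U a' b' c' →
      U t u v = U a b c ∧ z = w ∧ U t' u' v' = U a' b' c'
  uniqB : ∀ t u v z a b c w, U t u v * H z = U a b c * H w → U t u v = U a b c ∧ z = w
  disj : ∀ t u v z a b c w a' b' c', U t u v * H z ≠ U a b c * H w * n * U a' b' c'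

namespace ReeData

variable {G : Type*} [Group G] {K : Type*} [Field K] (D : ReeData G K)

theorem U_zero : D.U 0 0 0 = 1 := by
  have h := D.U_mul 0 0 0 0 0 0
  simp only [add_zero, map_zero, mul_zero, sub_zero] at h
  exact mul_eq_left.1 h

theorem U_inv (t u v : K) : (D.U t u v)⁻¹ = D.U (-t) (-u - t * D.ψ t) (-v - u * t - 2 * t ^ 2 * D.ψ t) := by
  rw [inv_eq_iff_mul_eq_one, D.U_mul, ← D.U_zero]
  congr 1
  · ring
  · rw [map_neg]; ring
  · rw [map_neg]; ring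

/-- the subgroup `U`. -/
def Us : Subgroup G where
  carrier := {g | ∃ t u v, g = D.U t u v}
  mul_mem' := by
    rintro _ _ ⟨t, u, v, rfl⟩ ⟨t', u', v', rfl⟩
    exact ⟨_, _, _, D.U_mul _ _ _ _ _ _⟩
  one_mem' := ⟨0, 0, 0, D.U_zero.symm⟩
  inv_mem' := by
    rintro _ ⟨t, u, v, rfl⟩
    exact ⟨_, _, _, D.U_inv _ _ _⟩

theorem mem_Us {g : G} : g ∈ D.Us ↔ ∃ t u v, g = D.U t u v := Iff.rfl

theorem U_mem (t u v : K) : D.U t u v ∈ D.Us := ⟨t, u, v, rfl⟩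

theorem H_conj_mem (z : Kˣ) {x : G} (hx : x ∈ D.Us) : D.H z * x * (D.H z)⁻¹ ∈ D.Us := by
  obtain ⟨t, u, v, rfl⟩ := hx
  exact ⟨_, _, _, D.H_conj z t u v⟩

theorem H_conj_mem' (z : Kˣ) {x : G} (hx : x ∈ D.Us) : (D.H z)⁻¹ * x * D.H z ∈ D.Us := by
  have := D.H_conj_mem z⁻¹ hx
  rwa [map_inv, inv_inv] at this

theorem uniq' {x y x' y' : G} {z w : Kˣ} (hx : x ∈ D.Us) (hy : y ∈ D.Us) (hx' : x' ∈ D.Us)
    (hy' : y' ∈ D.Us) (h : x * D.H z * D.n * y = x' * D.H w * D.n * y') : x = x' ∧ z = w ∧ y = y' := by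
  obtain ⟨t, u, v, rfl⟩ := hx
  obtain ⟨t', u', v', rfl⟩ := hy
  obtain ⟨a, b, c, rfl⟩ := hx'
  obtain ⟨a', b', c', rfl⟩ := hy'
  exact D.uniq _ _ _ _ _ _ _ _ _ _ _ _ _ _ h

theorem uniqB' {x x' : G} {z w : Kˣ} (hx : x ∈ D.Us) (hx' : x' ∈ D.Us)
    (h : x * D.H z = x' * D.H w) : x = x' ∧ z = w := by
  obtain ⟨t, u, v, rfl⟩ := hx
  obtain ⟨a, b, c, rfl⟩ := hx'
  exact D.uniqB _ _ _ _ _ _ _ _ h

theorem disj' {x x' y' : G} {z w : Kˣ} (hx : x ∈ D.Us) (hx' : x' ∈ D.Us) (hy' : y' ∈ D.Us) :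
    x * D.H z ≠ x' * D.H w * D.n * y' := by
  obtain ⟨t, u, v, rfl⟩ := hx
  obtain ⟨a, b, c, rfl⟩ := hx'
  obtain ⟨a', b', c', rfl⟩ := hy'
  exact D.disj _ _ _ _ _ _ _ _ _ _ _

theorem cover' (g : G) : (∃ x ∈ D.Us, ∃ z, g = x * D.H z) ∨
    ∃ x ∈ D.Us, ∃ z, ∃ y ∈ D.Us, g = x * D.H z * D.n * y := by
  rcases D.cover g with ⟨t, u, v, z, rfl⟩ | ⟨t, u, v, z, t', u', v', rfl⟩
  · exact Or.inl ⟨_, D.U_mem t u v, z, rfl⟩
  · exact Or.inr ⟨_, D.U_mem t u v, z, _, D.U_mem t' u' v', rfl⟩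

theorem H_inj : Function.Injective D.H := by
  intro z w h
  have := D.uniqB' (x := 1) (x' := 1) (one_mem _) (one_mem _) (z := z) (w := w) (by rw [h])
  exact this.2

theorem U_ne_one {t u v : K} (h : ¬ (t = 0 ∧ u = 0 ∧ v = 0)) : D.U t u v ≠ 1 := by
  rw [← D.U_zero]
  intro e
  exact h (D.U_inj _ _ _ _ _ _ e)

theorem H_comm (z w : Kˣ) : D.H z * D.H w = D.H w * D.H z := by
  rw [← map_mul, ← map_mul, mul_comm]

/-- the normaliser of `U` is `U H`. -/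
theorem normalizer_Us {g : G} (hg : ∀ x ∈ D.Us, g * x * g⁻¹ ∈ D.Us) : ∃ x ∈ D.Us, ∃ z, g = x * D.H z := by
  rcases D.cover' g with h | ⟨a, ha, z, b, hb, rfl⟩
  · exact h
  · exfalso
    have h1 := hg (b⁻¹ * D.U 0 0 1 * b) (mul_mem (mul_mem (inv_mem hb) (D.U_mem _ _ _)) hb)
    have h2 : D.n * D.U 0 0 1 * D.n⁻¹ ∈ D.Us := by
      have e : D.n * D.U 0 0 1 * D.n⁻¹ = (D.H z)⁻¹ * (a⁻¹ * (a * D.H z * D.n * b * (b⁻¹ * D.U 0 0 1 * b) *
          (a * D.H z * D.n * b)⁻¹) * a) * D.H z := by group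
      rw [e]
      exact D.H_conj_mem' z (mul_mem (mul_mem (inv_mem ha) h1) ha)
    have h3 : 1 * D.H 1 * D.n * D.U 0 0 1 = (D.n * D.U 0 0 1 * D.n⁻¹) * D.H 1 * D.n * 1 := by
      rw [map_one]; group
    have h4 := (D.uniq' (one_mem _) (D.U_mem _ _ _) h2 (one_mem _) h3).2.2
    exact D.U_ne_one (by simp) h4

theorem psi_w {z : K} (h : z ^ 2 * D.ψ z = 1) : z = 1 := by
  have h1 : D.ψ z ^ 2 * z ^ 3 = 1 := by
    have := congrArg D.ψ h
    rwa [map_mul, map_pow, D.ψψ, map_one] at this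
  have h2 : (z ^ 2 * D.ψ z) ^ 2 = 1 := by rw [h, one_pow]
  linear_combination h2 - z * h1

theorem psi_u {z : K} (h : z * D.ψ z = 1) : z ^ 2 = 1 := by
  have h1 : D.ψ z * z ^ 3 = 1 := by
    have := congrArg D.ψ h
    rwa [map_mul, D.ψψ, map_one] at this
  linear_combination h1 - z ^ 2 * h

theorem fpf {z : Kˣ} (hz : (z : K) ^ 2 ≠ 1) {x : G} (hx : x ∈ D.Us) (hc : D.H z * x = x * D.H z) :
    x = 1 := by
  obtain ⟨t, u, v, rfl⟩ := hx
  have h1 := D.H_conj z t u v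
  rw [hc, mul_inv_cancel_right] at h1
  obtain ⟨e1, e2, e3⟩ := D.U_inj _ _ _ _ _ _ h1
  have ht : t = 0 := by
    by_contra h0
    have : (z : K) = 1 := by
      apply mul_right_cancel₀ h0
      rw [one_mul, ← e1]
    exact hz (by rw [this, one_pow])
  have hu : u = 0 := by
    by_contra h0
    have : (z : K) * D.ψ z = 1 := by
      apply mul_right_cancel₀ h0
      rw [one_mul, ← e2]
    exact hz (D.psi_u this)
  have hv : v = 0 := by
    by_contra h0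
    have : (z : K) ^ 2 * D.ψ z = 1 := by
      apply mul_right_cancel₀ h0
      rw [one_mul, ← e3]
    exact hz (by rw [D.psi_w this, one_pow])
  rw [ht, hu, hv, D.U_zero]

include D in
theorem two_ne_zero' : (2 : K) ≠ 0 := by
  intro h
  have h3 := D.three
  have : (1 : K) = 0 := by linear_combination h3 - h
  exact one_ne_zero this

end ReeData

end Cfsg.Agent.Lib.Helper8.Core0
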