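import Cfsg.Agent.Lib.Helper8.Core0.AR

/-! REE ladder, rung S0A (helper67). -/

set_option autoImplicit false

namespace Cfsg.Agent.Lib.Helper8.Core0

open Cfsg.Agent.Lib.Helper46 Matrix

theorem s0a_mul3 {G : Type*} [Group G] {x y z : G} (hxy : Commute x y) (hxz : Commute x z)
    (hyz : Commute y z) (a b c a' b' c' : ℕ) :
    (x ^ a * (y ^ b * z ^ c)) * (x ^ a' * (y ^ b' * z ^ c')) =
      x ^ (a + a') * (y ^ (b + b') * z ^ (c + c')) := by
  rw [pow_add, pow_add, pow_add]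
  have h1 : Commute (y ^ b * z ^ c) (x ^ a') :=
    ((hxy.pow_pow a' b).symm.mul_left (hxz.pow_pow a' c).symm)
  have h2 : Commute (z ^ c) (y ^ b') := (hyz.pow_pow b' c).symm
  calc _ = x ^ a * ((y ^ b * z ^ c) * x ^ a') * (y ^ b' * z ^ c') := by simp only [mul_assoc]
    _ = x ^ a * (x ^ a' * (y ^ b * z ^ c)) * (y ^ b' * z ^ c') := by rw [h1.eq]
    _ = x ^ a * x ^ a' * (y ^ b * (z ^ c * y ^ b') * z ^ c') := by simp only [mul_assoc]
    _ = x ^ a * x ^ a' * (y ^ b * (y ^ b' * z ^ c) * z ^ c') := by rw [h2.eq]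
    _ = _ := by simp only [mul_assoc]

theorem s0a_pow_mod {G : Type*} [Group G] {x : G} (h : x * x = 1) (a : ℕ) : x ^ a = x ^ (a % 2) := by
  conv_lhs => rw [← Nat.div_add_mod a 2]
  rw [pow_add, pow_mul, pow_two, h, one_pow, one_mul]

theorem s0a_pow_cases {G : Type*} [Group G] {x : G} (h : x * x = 1) (a : ℕ) :
    (a % 2 = 0 ∧ x ^ a = 1) ∨ (a % 2 = 1 ∧ x ^ a = x) := by
  rw [s0a_pow_mod h a]
  rcases Nat.mod_two_eq_zero_or_one a with h0 | h0 <;> rw [h0]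
  · left; simp
  · right; simp

namespace ReeFull

variable {G : Type*} [Group G] {K : Type*} [Field K] (D : ReeFull G K)

theorem s0a_sS_sq : D.sS * D.sS = negOne := by
  have h3 := D.three
  apply ext2 <;> simp only [mul_00, mul_01, mul_10, mul_11, sS, negOne, mk2_00, mk2_01, mk2_10, mk2_11]
  · linear_combination h3
  · ring
  · ring
  · linear_combination h3

theorem s0a_ww_sS : (ww : SpecialLinearGroup (Fin 2) K) * D.sS = negOne * (D.sS * ww) := by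
  apply ext2 <;> simp only [mul_00, mul_01, mul_10, mul_11, sS, ww, negOne, mk2_00, mk2_01, mk2_10, mk2_11] <;> ring

/-! ### rung S0A (the standard Sylow 2-subgroup; uses PK3, PK4) -/
theorem v_sq : D.v * D.v = 1 := by
  unfold v
  rw [← map_mul, s0a_sS_sq, D.pk4_φ_negOne]

theorem n_v : D.n * D.v = D.v * D.n := by
  unfold v
  rw [← D.φ_ww, ← map_mul, s0a_ww_sS, map_mul, D.pk4_φ_negOne, one_mul, map_mul]

theorem j_v : D.j * D.v = D.v * D.j := (D.φ_comm_j _).symm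

theorem s0a_form {x : G} : x ∈ D.S0 ↔ ∃ a b c : ℕ, x = D.j ^ a * (D.n ^ b * D.v ^ c) := by
  have hjn : Commute D.j D.n := D.n_j.symm
  have hjv : Commute D.j D.v := D.j_v
  have hnv : Commute D.n D.v := D.n_v
  constructor
  · intro hx
    unfold S0 at hx
    induction hx using Subgroup.closure_induction with
    | mem y hy =>
      rcases hy with rfl | rfl | rfl
      · exact ⟨1, 0, 0, by simp⟩
      · exact ⟨0, 1, 0, by simp⟩
      · exact ⟨0, 0, 1, by simp⟩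
    | one => exact ⟨0, 0, 0, by simp⟩
    | mul y z _ _ hy hz =>
      obtain ⟨a, b, c, rfl⟩ := hy
      obtain ⟨a', b', c', rfl⟩ := hz
      exact ⟨_, _, _, s0a_mul3 hjn hjv hnv _ _ _ _ _ _⟩
    | inv y _ hy =>
      obtain ⟨a, b, c, rfl⟩ := hy
      refine ⟨a, b, c, ?_⟩
      rw [inv_eq_iff_mul_eq_one, s0a_mul3 hjn hjv hnv, ← two_mul, ← two_mul, ← two_mul,
        pow_mul, pow_mul, pow_mul, pow_two, pow_two, pow_two, D.j_sq, D.n_sq, D.v_sq]
      simp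
  · rintro ⟨a, b, c, rfl⟩
    unfold S0
    have h1 : D.j ∈ Subgroup.closure {D.j, D.n, D.v} := Subgroup.subset_closure (by simp)
    have h2 : D.n ∈ Subgroup.closure {D.j, D.n, D.v} := Subgroup.subset_closure (by simp)
    have h3 : D.v ∈ Subgroup.closure {D.j, D.n, D.v} := Subgroup.subset_closure (by simp)
    exact mul_mem (pow_mem h1 _) (mul_mem (pow_mem h2 _) (pow_mem h3 _))

theorem mem_S0 {x : G} : x ∈ D.S0 ↔ x = 1 ∨ x = D.n ∨ x = D.v ∨ x = D.n * D.v ∨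
    x = D.j ∨ x = D.j * D.n ∨ x = D.j * D.v ∨ x = D.j * (D.n * D.v) := by
  rw [s0a_form]
  constructor
  · rintro ⟨a, b, c, rfl⟩
    rcases s0a_pow_cases D.j_sq a with ⟨-, h1⟩ | ⟨-, h1⟩ <;>
    rcases s0a_pow_cases D.n_sq b with ⟨-, h2⟩ | ⟨-, h2⟩ <;>
    rcases s0a_pow_cases D.v_sq c with ⟨-, h3⟩ | ⟨-, h3⟩ <;>
    rw [h1, h2, h3] <;> simp
  · rintro (rfl | rfl | rfl | rfl | rfl | rfl | rfl | rfl)
    · exact ⟨0, 0, 0, by simp⟩
    · exact ⟨0, 1, 0, by simp⟩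
    · exact ⟨0, 0, 1, by simp⟩
    · exact ⟨0, 1, 1, by simp⟩
    · exact ⟨1, 0, 0, by simp⟩
    · exact ⟨1, 1, 0, by simp⟩
    · exact ⟨1, 0, 1, by simp⟩
    · exact ⟨1, 1, 1, by simp⟩

theorem s0a_j_mul_φ_ne (s : SpecialLinearGroup (Fin 2) K) : D.j * D.φ s ≠ 1 := by
  intro h
  apply D.φ_ne_j s⁻¹
  rw [map_inv]
  exact (eq_inv_of_mul_eq_one_left h).symm

theorem s0a_n_ne : D.n ≠ 1 := by
  rw [← D.φ_ww]
  intro h
  have h1 : (1 : K) ≠ 0 := one_ne_zero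
  rcases D.φ_eq_one_iff.1 h with h | h
  · have := congrArg (fun Z : SpecialLinearGroup (Fin 2) K => (Z : Matrix (Fin 2) (Fin 2) K) 0 1) h
    simp [ww] at this
  · have := congrArg (fun Z : SpecialLinearGroup (Fin 2) K => (Z : Matrix (Fin 2) (Fin 2) K) 0 1) h
    simp [ww, negOne] at this

theorem s0a_v_ne : D.v ≠ 1 := by
  unfold v
  intro h
  rcases D.φ_eq_one_iff.1 h with h | h
  · have := congrArg (fun Z : SpecialLinearGroup (Fin 2) K => (Z : Matrix (Fin 2) (Fin 2) K) 0 1) h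
    simp [sS] at this
  · have := congrArg (fun Z : SpecialLinearGroup (Fin 2) K => (Z : Matrix (Fin 2) (Fin 2) K) 0 1) h
    simp [sS, negOne] at this

theorem s0a_nv_ne : D.n * D.v ≠ 1 := by
  unfold v
  rw [← D.φ_ww, ← map_mul]
  intro h
  rcases D.φ_eq_one_iff.1 h with h | h
  · have := congrArg (fun Z : SpecialLinearGroup (Fin 2) K => (Z : Matrix (Fin 2) (Fin 2) K) 0 1) h
    simp [sS, ww, mul_01] at this
  · have := congrArg (fun Z : SpecialLinearGroup (Fin 2) K => (Z : Matrix (Fin 2) (Fin 2) K) 0 1) h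
    simp [sS, ww, negOne, mul_01] at this

theorem s0a_key {a b c : ℕ} (h : D.j ^ a * (D.n ^ b * D.v ^ c) = 1) :
    a % 2 = 0 ∧ b % 2 = 0 ∧ c % 2 = 0 := by
  rcases s0a_pow_cases D.j_sq a with ⟨e1, h1⟩ | ⟨e1, h1⟩ <;>
  rcases s0a_pow_cases D.n_sq b with ⟨e2, h2⟩ | ⟨e2, h2⟩ <;>
  rcases s0a_pow_cases D.v_sq c with ⟨e3, h3⟩ | ⟨e3, h3⟩ <;>
  rw [h1, h2, h3] at h
  · exact ⟨e1, e2, e3⟩
  · exact absurd (by simpa using h) D.s0a_v_ne
  · exact absurd (by simpa using h) D.s0a_n_ne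
  · exact absurd (by simpa using h) D.s0a_nv_ne
  · exact absurd (by simpa using h) D.j_ne_one
  · exfalso
    apply D.s0a_j_mul_φ_ne D.sS
    have h' : D.j * D.v = 1 := by simpa using h
    exact h'
  · exfalso
    apply D.s0a_j_mul_φ_ne ww
    rw [D.φ_ww]
    simpa using h
  · exfalso
    apply D.s0a_j_mul_φ_ne (ww * D.sS)
    rw [map_mul, D.φ_ww]
    exact h

theorem card_S0 : Nat.card D.S0 = 8 := by
  have hjn : Commute D.j D.n := D.n_j.symm
  have hjv : Commute D.j D.v := D.j_v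
  have hnv : Commute D.n D.v := D.n_v
  let f : Fin 2 × Fin 2 × Fin 2 → D.S0 := fun x =>
    ⟨D.j ^ (x.1 : ℕ) * (D.n ^ (x.2.1 : ℕ) * D.v ^ (x.2.2 : ℕ)), D.s0a_form.2 ⟨_, _, _, rfl⟩⟩
  have hf : Function.Bijective f := by
    constructor
    · rintro ⟨a, b, c⟩ ⟨a', b', c'⟩ h
      have h1 : D.j ^ (a : ℕ) * (D.n ^ (b : ℕ) * D.v ^ (c : ℕ)) =
          D.j ^ (a' : ℕ) * (D.n ^ (b' : ℕ) * D.v ^ (c' : ℕ)) := congrArg Subtype.val h
      have h2 : D.j ^ ((a : ℕ) + a') * (D.n ^ ((b : ℕ) + b') * D.v ^ ((c : ℕ) + c')) = 1 := by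
        rw [← s0a_mul3 hjn hjv hnv, h1, s0a_mul3 hjn hjv hnv, ← two_mul, ← two_mul, ← two_mul,
          pow_mul, pow_mul, pow_mul, pow_two, pow_two, pow_two, D.j_sq, D.n_sq, D.v_sq]
        simp
      obtain ⟨e1, e2, e3⟩ := D.s0a_key h2
      have := a.2; have := a'.2; have := b.2; have := b'.2; have := c.2; have := c'.2
      refine Prod.ext (Fin.ext ?_) (Prod.ext (Fin.ext ?_) (Fin.ext ?_))
      · show (a : ℕ) = a'
        omega
      · show (b : ℕ) = b'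
        omega
      · show (c : ℕ) = c'
        omega
    · rintro ⟨x, hx⟩
      obtain ⟨a, b, c, rfl⟩ := D.s0a_form.1 hx
      refine ⟨(⟨a % 2, Nat.mod_lt _ (by norm_num)⟩, ⟨b % 2, Nat.mod_lt _ (by norm_num)⟩,
        ⟨c % 2, Nat.mod_lt _ (by norm_num)⟩), ?_⟩
      apply Subtype.ext
      show D.j ^ (a % 2) * (D.n ^ (b % 2) * D.v ^ (c % 2)) = _
      rw [← s0a_pow_mod D.j_sq, ← s0a_pow_mod D.n_sq, ← s0a_pow_mod D.v_sq]
  rw [← Nat.card_congr (Equiv.ofBijective f hf)]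
  simp

theorem S0_sq {x : G} (hx : x ∈ D.S0) : x * x = 1 := by
  have hjn : Commute D.j D.n := D.n_j.symm
  have hjv : Commute D.j D.v := D.j_v
  have hnv : Commute D.n D.v := D.n_v
  obtain ⟨a, b, c, rfl⟩ := D.s0a_form.1 hx
  rw [s0a_mul3 hjn hjv hnv, ← two_mul, ← two_mul, ← two_mul,
    pow_mul, pow_mul, pow_mul, pow_two, pow_two, pow_two, D.j_sq, D.n_sq, D.v_sq]
  simp

end ReeFull

end Cfsg.Agent.Lib.Helper8.Core0
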