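import Cfsg.Agent.Lib.Helper8.Core0.S0A

/-! REE ladder, rung S0C (helper67). -/

set_option autoImplicit false

namespace Cfsg.Agent.Lib.Helper8.Core0

open Cfsg.Agent.Lib.Helper46 Matrix

namespace ReeFull

variable {G : Type*} [Group G] {K : Type*} [Field K] (D : ReeFull G K)

include D in
theorem s0c_fact : (Nat.card G).factorization 2 = 3 := by
  rw [D.card_G_eq]
  obtain ⟨k, hk⟩ := D.odd_part
  set m := D.q ^ 3 * ((D.q - 1) / 2) * ((D.q + 1) / 4) * (D.q ^ 2 - D.q + 1) with hm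
  have hm0 : m ≠ 0 := by omega
  rw [Nat.factorization_mul (by norm_num) hm0, Finsupp.add_apply,
    Nat.factorization_eq_zero_of_not_dvd (n := m) (p := 2) (by omega), add_zero]
  have : (8 : ℕ) = 2 ^ 3 := by norm_num
  rw [this, Nat.Prime.factorization_pow Nat.prime_two]
  simp

/-- `S0` as a Sylow subgroup. -/
noncomputable def s0c_P : Sylow 2 G :=
  haveI := D.finite_G
  haveI : Fact (Nat.Prime 2) := ⟨Nat.prime_two⟩
  Sylow.ofCard D.S0 (by rw [D.card_S0, D.s0c_fact]; norm_num)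

theorem s0c_P_coe : (D.s0c_P : Subgroup G) = D.S0 := by
  rfl

/-! ### rung S0C (Sylow + helper42's TR) -/
theorem sylow_conj_S0 (S : Sylow 2 G) : ∃ g : G, (S : Subgroup G) = D.S0.map (MulAut.conj g).toMonoidHom := by
  haveI := D.finite_G
  haveI : Fact (Nat.Prime 2) := ⟨Nat.prime_two⟩
  obtain ⟨g, hg⟩ := MulAction.exists_smul_eq G D.s0c_P S
  refine ⟨g, ?_⟩
  rw [← hg, Sylow.coe_subgroup_smul, D.s0c_P_coe]
  rfl

end ReeFull

end Cfsg.Agent.Lib.Helper8.Core0
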